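import Groth.Agent.Lib.PerfEt29.Basic
import Groth.Agent.S18933
import Mathlib.AlgebraicGeometry.AffineSpace
import Mathlib.AlgebraicGeometry.Morphisms.Smooth
import Mathlib.RingTheory.RingHom.StandardSmooth

/-!
# Flatness of the relative Frobenius of a smooth morphism
-/

set_option autoImplicit false
set_option linter.style.haveILetI false
set_option backward.isDefEq.respectTransparency.types false
universe u

open CategoryTheory CategoryTheory.Limits AlgebraicGeometry

namespace Groth.Agent.RelFrobFlat12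

variable (p : ℕ) (n : Type u)

/-- The `p`-th power map on the coordinates of affine space. -/
noncomputable def pw (S : Scheme.{u}) : AffineSpace n S ⟶ AffineSpace n S :=
  AffineSpace.homOfVector (AffineSpace n S ↘ S) (fun i => AffineSpace.coord S i ^ p)

@[reassoc (attr := simp)]
theorem pw_over (S : Scheme.{u}) : pw p n S ≫ AffineSpace n S ↘ S = AffineSpace n S ↘ S :=
  AffineSpace.homOfVector_over _ _

theorem pw_appTop_coord (S : Scheme.{u}) (i : n) :
    (pw p n S).appTop (AffineSpace.coord S i) = AffineSpace.coord S i ^ p :=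
  AffineSpace.homOfVector_appTop_coord _ _ i

theorem pw_map {S T : Scheme.{u}} (g : S ⟶ T) :
    pw p n S ≫ AffineSpace.map n g = AffineSpace.map n g ≫ pw p n T := by
  refine AffineSpace.hom_ext ?_ fun i => ?_
  · rw [Category.assoc, Category.assoc, AffineSpace.map_over, pw_over, AffineSpace.map_over, pw_over_assoc]
  · simp only [Scheme.Hom.comp_appTop, CommRingCat.comp_apply]
    rw [pw_appTop_coord]
    refine Eq.trans (congrArg _ (AffineSpace.map_appTop_coord g i)) ?_
    rw [pw_appTop_coord, map_pow]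
    exact congrArg (· ^ p) (AffineSpace.map_appTop_coord g i).symm

theorem isPullback_pw {S T : Scheme.{u}} (g : S ⟶ T) :
    IsPullback (AffineSpace.map n g) (pw p n S) (pw p n T) (AffineSpace.map n g) := by
  refine IsPullback.of_bot ?_ (pw_map p n g).symm (AffineSpace.isPullback_map g)
  rw [pw_over, pw_over]
  exact AffineSpace.isPullback_map g

theorem flat_pw_int [Fact p.Prime] [Finite n] : Flat (pw p n (Spec (CommRingCat.of (ULift.{u} ℤ)))) := by
  haveI : IsNoetherianRing (ULift.{u} ℤ) := isNoetherianRing_of_ringEquiv ℤ ULift.ringEquiv.symm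
  obtain ⟨m, ⟨e⟩⟩ := Finite.exists_equiv_fin n
  let φ : MvPolynomial (Fin m) (ULift.{u} ℤ) →ₐ[ULift.{u} ℤ] MvPolynomial (Fin m) (ULift.{u} ℤ) :=
    MvPolynomial.aeval fun i => MvPolynomial.X i ^ p
  have hφ : φ.toRingHom.Flat :=
    ((Groth.Agent.S18933.result p (ULift.{u} ℤ) m φ fun i => MvPolynomial.aeval_X _ i).2).flat
  let ψ : MvPolynomial n (ULift.{u} ℤ) →ₐ[ULift.{u} ℤ] MvPolynomial n (ULift.{u} ℤ) :=
    MvPolynomial.aeval fun i => MvPolynomial.X i ^ p
  have hψe : ψ = ((MvPolynomial.renameEquiv (ULift.{u} ℤ) e).symm.toAlgHom.comp φ).comp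
      (MvPolynomial.renameEquiv (ULift.{u} ℤ) e).toAlgHom := by
    ext i : 1
    simp [ψ, φ]
  have hψ : ψ.toRingHom.Flat := by
    rw [hψe]
    exact RingHom.Flat.comp (RingHom.Flat.of_bijective (f := (MvPolynomial.renameEquiv (ULift.{u} ℤ) e).toAlgHom.toRingHom)
        (MvPolynomial.renameEquiv (ULift.{u} ℤ) e).bijective)
      (RingHom.Flat.comp hφ (RingHom.Flat.of_bijective (f := (MvPolynomial.renameEquiv (ULift.{u} ℤ) e).symm.toAlgHom.toRingHom)
        (MvPolynomial.renameEquiv (ULift.{u} ℤ) e).symm.bijective))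
  haveI : Flat (Spec.map (CommRingCat.ofHom ψ.toRingHom)) := by
    rw [HasRingHomProperty.Spec_iff (P := @Flat)]
    exact hψ
  let R := CommRingCat.of (ULift.{u} ℤ)
  have hpw : pw p n (Spec R) = (AffineSpace.SpecIso n R).hom ≫ Spec.map (CommRingCat.ofHom ψ.toRingHom) ≫
      (AffineSpace.SpecIso n R).inv := by
    rw [← Iso.inv_comp_eq]
    refine AffineSpace.hom_ext ?_ fun i => ?_
    · rw [Category.assoc, pw_over, Category.assoc, AffineSpace.SpecIso_inv_over, ← Spec.map_comp,
        ← CommRingCat.ofHom_comp]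
      congr 2
      exact (RingHom.ext fun r => (ψ.commutes r).symm)
    · simp only [Scheme.Hom.comp_appTop, CommRingCat.comp_apply]
      rw [pw_appTop_coord, map_pow, AffineSpace.SpecIso_inv_appTop_coord, ← CommRingCat.comp_apply,
        ← Scheme.ΓSpecIso_inv_naturality, CommRingCat.comp_apply, ← map_pow]
      congr 1
      simp [ψ]
  rw [hpw]
  infer_instance

theorem flat_pw [Fact p.Prime] [Finite n] (S : Scheme.{u}) : Flat (pw p n S) := by
  let g : S ⟶ Spec (CommRingCat.of (ULift.{u} ℤ)) :=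
    specULiftZIsTerminal.from S
  exact MorphismProperty.of_isPullback (P := @Flat) (isPullback_pw p n g) (flat_pw_int p n)

theorem flat_relFrob_over [Fact p.Prime] [Finite n] (S : Scheme.{u}) [FrobSch.IsCharP S p] :
    Flat (FrobSch.relFrob (AffineSpace n S ↘ S) p) := by
  haveI : FrobSch.IsCharP (AffineSpace n S) p := FrobSch.IsCharP.of_hom (AffineSpace n S ↘ S) p
  haveI := flat_pw p n S
  have sq := AffineSpace.isPullback_map (n := n) (FrobSch.frob S p)
  have h : FrobSch.relFrob (AffineSpace n S ↘ S) p = pw p n S ≫ sq.isoPullback.hom := by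
    apply pullback.hom_ext
    · rw [FrobSch.relFrob_fst, Category.assoc, sq.isoPullback_hom_fst]
      refine AffineSpace.hom_ext ?_ fun i => ?_
      · rw [Category.assoc, AffineSpace.map_over, pw_over_assoc, FrobSch.frob_comp]
      · simp only [Scheme.Hom.comp_appTop, CommRingCat.comp_apply]
        rw [FrobSch.frob_appTop]
        refine Eq.trans ?_ (congrArg _ (AffineSpace.map_appTop_coord _ i)).symm
        rw [pw_appTop_coord]
    · rw [FrobSch.relFrob_snd, Category.assoc, sq.isoPullback_hom_snd, pw_over]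
  rw [h]
  infer_instance

/-- If the relative Frobenius of `q` is flat and `g` is étale, the relative Frobenius of `g ≫ q` is flat. -/
theorem flat_relFrob_comp [Fact p.Prime] {U A S : Scheme.{u}} [FrobSch.IsCharP S p] (g : U ⟶ A) [Etale g]
    (q : A ⟶ S) [Flat (FrobSch.relFrob q p)] : Flat (FrobSch.relFrob (g ≫ q) p) := by
  haveI : FrobSch.IsCharP A p := FrobSch.IsCharP.of_hom q p
  haveI : FrobSch.IsCharP U p := FrobSch.IsCharP.of_hom g p
  haveI := Groth.Agent.PerfEt29.isIso_relFrob (p := p) g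
  let G : FrobSch.frobTwist (g ≫ q) p ⟶ FrobSch.frobTwist q p :=
    pullback.map _ _ _ _ g (𝟙 _) (𝟙 _) (by simp) (by simp)
  have hG1 : G ≫ pullback.fst q (FrobSch.frob S p) = pullback.fst (g ≫ q) (FrobSch.frob S p) ≫ g :=
    pullback.lift_fst _ _ _
  have hG2 : G ≫ pullback.snd q (FrobSch.frob S p) = pullback.snd (g ≫ q) (FrobSch.frob S p) :=
    (pullback.lift_snd _ _ _).trans (Category.comp_id _)
  have sq₁ : IsPullback G (pullback.fst (g ≫ q) (FrobSch.frob S p)) (pullback.fst q (FrobSch.frob S p)) g := by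
    have h1 : IsPullback (G ≫ pullback.snd q (FrobSch.frob S p)) (pullback.fst (g ≫ q) (FrobSch.frob S p))
        (FrobSch.frob S p) (g ≫ q) := by
      rw [hG2]; exact (IsPullback.of_hasPullback _ _).flip
    exact IsPullback.of_bot h1.flip hG1.symm (IsPullback.of_hasPullback _ _) |>.flip
  obtain ⟨m, hm1, hm2⟩ : ∃ m : FrobSch.frobTwist g p ⟶ FrobSch.frobTwist (g ≫ q) p,
      m ≫ pullback.fst (g ≫ q) (FrobSch.frob S p) = pullback.fst g (FrobSch.frob A p) ∧
      m ≫ pullback.snd (g ≫ q) (FrobSch.frob S p) = pullback.snd g (FrobSch.frob A p) ≫ q :=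
    ⟨pullback.lift (pullback.fst _ _) (pullback.snd _ _ ≫ q)
      (by rw [pullback.condition_assoc, FrobSch.frob_comp, Category.assoc]),
      pullback.lift_fst _ _ _, pullback.lift_snd _ _ _⟩
  have hmG : m ≫ G = pullback.snd g (FrobSch.frob A p) ≫ FrobSch.relFrob q p := by
    apply pullback.hom_ext
    · rw [Category.assoc, hG1, ← Category.assoc, hm1, Category.assoc, FrobSch.relFrob_fst, pullback.condition]
    · rw [Category.assoc, hG2, hm2, Category.assoc, FrobSch.relFrob_snd]
  have sq₂ : IsPullback (pullback.snd g (FrobSch.frob A p)) m (FrobSch.relFrob q p) G := by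
    refine IsPullback.of_bot ?_ hmG.symm sq₁
    rw [hm1, FrobSch.relFrob_fst]
    exact (IsPullback.of_hasPullback _ _).flip
  haveI : Flat m := MorphismProperty.of_isPullback (P := @Flat) sq₂ ‹_›
  have h : FrobSch.relFrob (g ≫ q) p = FrobSch.relFrob g p ≫ m := by
    apply pullback.hom_ext
    · rw [FrobSch.relFrob_fst, Category.assoc, hm1, FrobSch.relFrob_fst]
    · rw [FrobSch.relFrob_snd, Category.assoc, hm2, FrobSch.relFrob_snd_assoc]
  rw [h]
  infer_instance

/-- A smooth morphism is locally étale over an affine space. -/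
theorem exists_etale_affineSpace {X S : Scheme.{u}} (f : X ⟶ S) [Smooth f] (x : X) :
    ∃ (U : X.Opens) (d : ℕ) (g : (U : Scheme.{u}) ⟶ AffineSpace (ULift.{u} (Fin d)) S),
      x ∈ U ∧ Etale g ∧ g ≫ AffineSpace (ULift.{u} (Fin d)) S ↘ S = U.ι ≫ f := by
  obtain ⟨V, hV, U, hU, hxU, e, hs⟩ := Smooth.exists_isStandardSmooth f x
  obtain ⟨d, φ, hφC, hφ⟩ := hs.exists_etale_mvPolynomial
  let φ' : MvPolynomial (ULift.{u} (Fin d)) Γ(S, V) →+* Γ(X, U) :=
    φ.comp (MvPolynomial.renameEquiv Γ(S, V) Equiv.ulift).toRingEquiv.toRingHom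
  have hφ' : φ'.Etale :=
    RingHom.Etale.respectsIso.2 φ (MvPolynomial.renameEquiv Γ(S, V) Equiv.ulift).toRingEquiv hφ
  have hC : φ'.comp MvPolynomial.C = (f.appLE V U e).hom := by
    rw [← hφC]
    refine RingHom.ext fun r => congrArg φ ?_
    exact (MvPolynomial.renameEquiv Γ(S, V) Equiv.ulift).commutes r
  haveI : Etale (Spec.map (CommRingCat.ofHom φ')) := by
    rw [HasRingHomProperty.Spec_iff (P := @Etale)]
    exact hφ'
  haveI : IsOpenImmersion (AffineSpace.map (ULift.{u} (Fin d)) hV.fromSpec) :=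
    MorphismProperty.of_isPullback (P := @IsOpenImmersion) (AffineSpace.isPullback_map hV.fromSpec).flip
      inferInstance
  refine ⟨U, d, hU.isoSpec.hom ≫ Spec.map (CommRingCat.ofHom φ') ≫ (AffineSpace.SpecIso (ULift.{u} (Fin d)) Γ(S, V)).inv ≫
    AffineSpace.map (ULift.{u} (Fin d)) hV.fromSpec, hxU, ?_, ?_⟩
  · infer_instance
  · simp only [Category.assoc, AffineSpace.map_over, AffineSpace.SpecIso_inv_over_assoc]
    rw [← Spec.map_comp_assoc, ← CommRingCat.ofHom_comp, hC]
    rw [CommRingCat.ofHom_hom, IsAffineOpen.SpecMap_appLE_fromSpec f hV hU e, ← hU.isoSpec_inv_ι]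
    simp

theorem flat_relFrob [Fact p.Prime] {X S : Scheme.{u}} [FrobSch.IsCharP S p] (f : X ⟶ S) [Smooth f] :
    Flat (FrobSch.relFrob f p) := by
  choose U d g hxU hg hgq using exists_etale_affineSpace f
  refine (IsZariskiLocalAtSource.iff_of_iSup_eq_top (P := @Flat) U
    (top_le_iff.1 fun x _ => TopologicalSpace.Opens.mem_iSup.2 ⟨x, hxU x⟩)).2 fun x => ?_
  haveI := hg x
  haveI := flat_relFrob_over p (ULift.{u} (Fin (d x))) S
  haveI h1 : Flat (FrobSch.relFrob (g x ≫ AffineSpace (ULift.{u} (Fin (d x))) S ↘ S) p) :=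
    flat_relFrob_comp p (g x) _
  rw [hgq x] at h1
  haveI : FrobSch.IsCharP X p := FrobSch.IsCharP.of_hom f p
  haveI : FrobSch.IsCharP (U x : Scheme.{u}) p := FrobSch.IsCharP.of_hom (U x).ι p
  let M : FrobSch.frobTwist ((U x).ι ≫ f) p ⟶ FrobSch.frobTwist f p :=
    pullback.map _ _ _ _ (U x).ι (𝟙 _) (𝟙 _) (by simp) (by simp)
  have hM : (U x).ι ≫ FrobSch.relFrob f p = FrobSch.relFrob ((U x).ι ≫ f) p ≫ M := by
    apply pullback.hom_ext
    · rw [Category.assoc, Category.assoc, FrobSch.relFrob_fst, pullback.lift_fst, FrobSch.relFrob_fst_assoc,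
        FrobSch.frob_comp]
    · rw [Category.assoc, Category.assoc, FrobSch.relFrob_snd, pullback.lift_snd, Category.comp_id,
        FrobSch.relFrob_snd]
  rw [hM]
  haveI : IsOpenImmersion M := inferInstanceAs (IsOpenImmersion (pullback.map _ _ _ _ (U x).ι (𝟙 _) (𝟙 _) _ _))
  infer_instance

end Groth.Agent.RelFrobFlat12
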